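import Groth.Agent.QCohLib.Coherent
import Groth.Agent.QCohLib.Push
import Groth.Agent.DCohLib.QCohAbelian
import Groth.Agent.DCohLib.Restrict
import Mathlib.CategoryTheory.Subobject.NoetherianObject
import Mathlib.CategoryTheory.Subobject.Limits

/-!
# Noetherian objects of quasi-coherent modules
-/

set_option autoImplicit false
set_option linter.style.haveILetI false

universe u

open CategoryTheory CategoryTheory.Limits AlgebraicGeometry TopologicalSpace Opposite
open Groth.Agent.CohBase Groth.Agent.QCohLib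

noncomputable section

namespace Groth.Agent.QCohNoeth

variable {X : Scheme.{u}}

lemma app_injective_of_mono {M N : X.Modules} (g : M ⟶ N) [Mono g] (W : X.Opens) :
    Function.Injective (g.app W) := by
  let S : ShortComplex X.Modules := ShortComplex.mk g (cokernel.π g) (cokernel.condition g)
  have hS : S.ShortExact :=
    { exact := ShortComplex.exact_cokernel g, mono_f := inferInstance, epi_g := inferInstance }
  exact Groth.Agent.QCohLib.app_injective hS W

/-- A quasi-coherent module with no sections on the members of an affine cover is zero. -/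
lemma isZero_of_cover {M : X.Modules} (hM : Coh.IsQCoh M) {ι : Type*} (W : ι → X.Opens)
    (hW : ∀ i, IsAffineOpen (W i)) (hcov : ∀ x : X, ∃ i, x ∈ W i)
    (h : ∀ i (s : Γ(M, W i)), s = 0) : IsZero M := by
  haveI := hM
  rw [IsZero.iff_id_eq_zero]
  refine Scheme.Modules.hom_ext _ _ fun U => ?_
  ext s
  let Ms : TopCat.Sheaf Ab X := ⟨M.presheaf, M.isSheaf⟩
  show s = 0
  choose j hj using hcov
  choose f hf hxf using fun x : U =>
    (hW (j x.1)).exists_basicOpen_le (V := U) ⟨x.1, x.2⟩ (hj x.1)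
  refine Ms.eq_of_locally_eq' (fun x : U => X.basicOpen (f x)) U (fun x => homOfLE (hf x))
    (fun x hx => Opens.mem_iSup.2 ⟨⟨x, hx⟩, hxf ⟨x, hx⟩⟩) _ _ fun x => ?_
  obtain ⟨n, t, ht⟩ := (locAt M (hW (j x.1))).extend (f x) (M.presheaf.map (homOfLE (hf x)).op s)
  rw [h (j x.1) t, map_zero, sc_apply] at ht
  have hu : IsUnit (X.presheaf.map (homOfLE (X.basicOpen_le (f x))).op (f x ^ n)) := by
    rw [map_pow]
    exact (RingedSpace.isUnit_res_basicOpen _ (f x)).pow n
  exact (hu.smul_eq_zero.1 ht.symm).trans (map_zero _).symm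

/-- The submodule of sections of a subobject. -/
def secs {M : QCohCat.QCoh X} (N : Subobject M) (W : X.Opens) : Submodule Γ(X, W) Γ(M.obj, W) :=
  LinearMap.range (appLinear N.arrow.hom W)

lemma secs_mono {M : QCohCat.QCoh X} {N N' : Subobject M} (h : N ≤ N') (W : X.Opens) :
    secs N W ≤ secs N' W := by
  rintro _ ⟨t, rfl⟩
  refine ⟨(Subobject.ofLE N N' h).hom.app W t, ?_⟩
  have := congrArg (fun φ => φ.hom.app W t) (Subobject.ofLE_arrow h)
  exact this

instance mono_hom {M N : QCohCat.QCoh X} (g : M ⟶ N) [Mono g] : Mono g.hom :=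
  haveI : PreservesFiniteLimits (QCohCat.isQCoh X).ι :=
    Functor.preservesFiniteLimits_of_preservesHomology (QCohCat.isQCoh X).ι
  Functor.map_mono (QCohCat.isQCoh X).ι g

lemma le_of_secs {M : QCohCat.QCoh X} {N N' : Subobject M} (h : N ≤ N') {ι : Type*}
    (W : ι → X.Opens) (hW : ∀ i, IsAffineOpen (W i)) (hcov : ∀ x : X, ∃ i, x ∈ W i)
    (heq : ∀ i, secs N' (W i) ≤ secs N (W i)) : N' ≤ N := by
  let a : (N : QCohCat.QCoh X).obj ⟶ (N' : QCohCat.QCoh X).obj := (Subobject.ofLE N N' h).hom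
  have hq := (isQCoh_image a (N : QCohCat.QCoh X).property (N' : QCohCat.QCoh X).property).2
  let S : ShortComplex X.Modules := ShortComplex.mk a (cokernel.π a) (cokernel.condition a)
  haveI : Mono a := inferInstanceAs (Mono (Subobject.ofLE N N' h).hom)
  have hS : S.ShortExact :=
    { exact := ShortComplex.exact_cokernel a, mono_f := inferInstance, epi_g := inferInstance }
  have hz : IsZero (cokernel a) := isZero_of_cover hq W hW hcov fun i s => by
    obtain ⟨t, rfl⟩ := app_surjective hS (N : QCohCat.QCoh X).property (hW i) s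
    obtain ⟨t', ht'⟩ := heq i ⟨t, rfl⟩
    have htt : a.app (W i) t' = t := by
      apply app_injective_of_mono N'.arrow.hom (W i)
      refine Eq.trans ?_ ht'
      exact (congrArg (fun φ => φ.hom.app (W i) t') (Subobject.ofLE_arrow h))
    show S.g.app (W i) t = 0
    rw [← htt]
    exact app_g_f (S := S) (W i) t'
  haveI : Epi a := Abelian.epi_of_cokernel_π_eq_zero _ (hz.eq_of_tgt _ _)
  haveI : IsIso a := isIso_of_mono_of_epi a
  haveI : IsIso ((QCohCat.isQCoh X).ι.map (Subobject.ofLE N N' h)) := inferInstanceAs (IsIso a)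
  haveI : IsIso (Subobject.ofLE N N' h) := isIso_of_fully_faithful (QCohCat.isQCoh X).ι _
  exact Subobject.le_of_comm (inv (Subobject.ofLE N N' h)) (by simp)

/-- A coherent module on a Noetherian scheme is a Noetherian object. -/
theorem isNoetherianObject_of_isCoh [IsNoetherian X] (M : QCohCat.QCoh X) (hM : Coh.IsCoh M.obj) :
    IsNoetherianObject M := by
  obtain ⟨F, hF⟩ := (isCompact_univ (X := X)).elim_finite_subcover
    (fun W : X.affineOpens => (W.1 : Set X)) (fun W => W.1.isOpen) fun x _ => by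
      obtain ⟨_, ⟨V, hV, rfl⟩, hx, -⟩ :=
        X.isBasis_affineOpens.exists_subset_of_mem_open (Set.mem_univ x) isOpen_univ
      exact Set.mem_iUnion.2 ⟨⟨V, hV⟩, hx⟩
  have hcov : ∀ x : X, ∃ i : F, x ∈ i.1.1 := fun x => by
    obtain ⟨W, hW, hx⟩ := Set.mem_iUnion₂.1 (hF (Set.mem_univ x))
    exact ⟨⟨W, hW⟩, hx⟩
  haveI : ∀ i : F, _root_.IsNoetherian Γ(X, i.1.1) Γ(M.obj, i.1.1) := fun i => by
    haveI := isNoetherianRing_section i.1.2
    haveI := finite_sections_of_isCoh hM i.1.2
    infer_instance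
  constructor
  change WellFoundedGT (Subobject M)
  haveI : ∀ i : F, WellFoundedGT (Submodule Γ(X, i.1.1) Γ(M.obj, i.1.1)) := fun i =>
    isNoetherian_iff'.1 inferInstance
  haveI : WellFoundedGT ((i : F) → Submodule Γ(X, i.1.1) Γ(M.obj, i.1.1)) :=
    Pi.wellFoundedLT (α := fun i : F => (Submodule Γ(X, i.1.1) Γ(M.obj, i.1.1))ᵒᵈ)
  refine StrictMono.wellFoundedGT (f := fun N (i : F) => secs N i.1.1) ?_
  intro N N' hlt
  refine lt_of_le_of_ne (fun i => secs_mono hlt.le _) fun he => hlt.not_ge ?_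
  exact le_of_secs hlt.le (fun i : F => i.1.1) (fun i => i.1.2) hcov fun i => (congrFun he i).ge

/-- A Noetherian object restricts to a finite module on a spectrum. -/
theorem finite_aux (M : QCohCat.QCoh X)
    [IsNoetherianObject M] {A : CommRingCat.{u}} (i : Spec A ⟶ X) [IsOpenImmersion i]
    [QuasiCompact i] [QuasiSeparated i] (Γ₀ : ModuleCat.{u} A)
    (e : tilde Γ₀ ≅ (Scheme.Modules.restrictFunctor i).obj M.obj) :
    Module.Finite A Γ₀ := by
  haveI : Coh.IsQCoh M.obj := M.property
  let R := Scheme.Modules.restrictFunctor i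
  let P := Scheme.Modules.pushforward i
  let adj := Scheme.Modules.restrictAdjunction i
  let q : ∀ S : Submodule A Γ₀, tilde Γ₀ ⟶ tilde (ModuleCat.of A (Γ₀ ⧸ S)) :=
    fun S => tilde.map (ModuleCat.ofHom S.mkQ)
  let ψ : ∀ S : Submodule A Γ₀, M.obj ⟶ P.obj (tilde (ModuleCat.of A (Γ₀ ⧸ S))) :=
    fun S => adj.homEquiv _ _ (e.inv ≫ q S)
  have hK : ∀ S, Coh.IsQCoh (kernel (ψ S)) := fun S => by
    haveI : Coh.IsQCoh (P.obj (tilde (ModuleCat.of A (Γ₀ ⧸ S)))) :=
      isQCoh_pushforward _ i
    exact (isQCoh_image (ψ S) M.property inferInstance).1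
  let K : ∀ _ : Submodule A Γ₀, QCohCat.QCoh X := fun S => ⟨kernel (ψ S), hK S⟩
  let κ : ∀ S, K S ⟶ M := fun S => ⟨kernel.ι (ψ S)⟩
  haveI : ∀ S, Mono (κ S) := fun S => by
    haveI : Mono ((QCohCat.isQCoh X).ι.map (κ S)) := inferInstanceAs (Mono (kernel.ι (ψ S)))
    exact (QCohCat.isQCoh X).ι.mono_of_mono_map inferInstance
  have hcomp : ∀ S T : Submodule A Γ₀, ∀ h : S ≤ T,
      ψ T = ψ S ≫ P.map (tilde.map (ModuleCat.ofHom (Submodule.factor h))) := fun S T h => by
    show adj.homEquiv _ _ (e.inv ≫ q T) = adj.homEquiv _ _ (e.inv ≫ q S) ≫ _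
    rw [← adj.homEquiv_naturality_right, Category.assoc]
    congr 2
    show tilde.map _ = tilde.map _ ≫ tilde.map _
    rw [← tilde.map_comp]
    congr 1
  have hle : ∀ S T : Submodule A Γ₀, S ≤ T → Subobject.mk (κ S) ≤ Subobject.mk (κ T) :=
    fun S T h => Subobject.mk_le_mk_of_comm ⟨kernel.lift (ψ T) (kernel.ι (ψ S)) (by
      rw [hcomp S T h, kernel.condition_assoc, zero_comp])⟩ (by
        apply ObjectProperty.hom_ext
        exact kernel.lift_ι _ _ _)
  have hinj : ∀ S T : Submodule A Γ₀, Subobject.mk (κ T) ≤ Subobject.mk (κ S) → T ≤ S := by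
    intro S T h
    have h0 : kernel.ι (ψ T) ≫ ψ S = 0 := by
      have hc : (Subobject.ofMkLEMk (κ T) (κ S) h).hom ≫ kernel.ι (ψ S) = kernel.ι (ψ T) :=
        congrArg (fun φ => φ.hom) (Subobject.ofMkLEMk_comp h)
      rw [← hc, Category.assoc, kernel.condition, comp_zero]
    haveI : IsIso (adj.counit.app (tilde (ModuleCat.of A (Γ₀ ⧸ T)))) := inferInstance
    have key : ∀ (U : Submodule A Γ₀), R.map (ψ U) ≫ adj.counit.app _ = e.inv ≫ q U :=
      fun U => (adj.homEquiv_counit _ _ _).symm.trans (Equiv.symm_apply_apply _ _)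
    let l : tilde (ModuleCat.of A T) ⟶ R.obj M.obj :=
      tilde.map (ModuleCat.ofHom T.subtype) ≫ e.hom
    have hl : l ≫ R.map (ψ T) = 0 := by
      rw [← cancel_mono (adj.counit.app (tilde (ModuleCat.of A (Γ₀ ⧸ T)))), zero_comp,
        Category.assoc, key]
      show (tilde.map _ ≫ e.hom) ≫ e.inv ≫ tilde.map _ = 0
      rw [Category.assoc, Iso.hom_inv_id_assoc, ← tilde.map_comp,
        show ModuleCat.ofHom T.subtype ≫ ModuleCat.ofHom T.mkQ = 0 from by ext x; simp]
      exact (tilde.functor _).map_zero _ _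
    haveI : PreservesFiniteLimits R := Groth.Agent.DCohLib.preservesFiniteLimits_restrictFunctor i
    have hlim := isLimitForkMapOfIsLimit' R (kernel.condition (ψ T)) (kernelIsKernel _)
    obtain ⟨m, hm⟩ := KernelFork.IsLimit.lift' hlim l hl
    have h1 : l ≫ R.map (ψ S) = 0 := by
      rw [← hm]
      show (m ≫ R.map (kernel.ι (ψ T))) ≫ R.map (ψ S) = 0
      rw [Category.assoc, ← R.map_comp, h0, R.map_zero, comp_zero]
    have h2 : tilde.map (ModuleCat.ofHom T.subtype ≫ ModuleCat.ofHom S.mkQ) = 0 := by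
      have h3 := congrArg (fun φ => φ ≫ adj.counit.app _) h1
      simp only [Category.assoc, zero_comp] at h3
      rw [key] at h3
      change (tilde.map _ ≫ e.hom) ≫ e.inv ≫ tilde.map _ = 0 at h3
      rwa [Category.assoc, Iso.hom_inv_id_assoc, ← tilde.map_comp] at h3
    have h4 : ModuleCat.ofHom T.subtype ≫ ModuleCat.ofHom S.mkQ = 0 :=
      (tilde.functor A).map_injective (h2.trans ((tilde.functor _).map_zero _ _).symm)
    intro x hx
    exact (Submodule.Quotient.mk_eq_zero S).1 (LinearMap.congr_fun (congrArg ModuleCat.Hom.hom h4) ⟨x, hx⟩)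
  haveI : WellFoundedGT (Submodule A Γ₀) :=
    StrictMono.wellFoundedGT (f := fun S => Subobject.mk (κ S)) fun S T h =>
      lt_of_le_of_ne (hle S T h.le) fun he => h.not_ge (hinj S T he.ge)
  haveI : _root_.IsNoetherian A Γ₀ := isNoetherian_iff'.2 inferInstance
  exact (inferInstance : Module.Finite A Γ₀)

/-- A Noetherian object restricts to a finite module on a spectrum. -/
theorem finite_restrict_of_isNoetherianObject (M : QCohCat.QCoh X)
    [IsNoetherianObject M] {A : CommRingCat.{u}} (i : Spec A ⟶ X) [IsOpenImmersion i]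
    [QuasiCompact i] [QuasiSeparated i]
    [IsIso (M.obj.restrict i).fromTildeΓ] :
    Module.Finite A ((modulesSpecToSheaf.obj (M.obj.restrict i)).presheaf.obj (op ⊤)) :=
  finite_aux M i _ (asIso (M.obj.restrict i).fromTildeΓ)

/-- A Noetherian object has finite sections on every affine open. -/
theorem finite_of_isNoetherianObject [IsNoetherian X] (M : QCohCat.QCoh X) [IsNoetherianObject M]
    {W : X.Opens} (hW : IsAffineOpen W) : Module.Finite Γ(X, W) Γ(M.obj, W) := by
  haveI : Coh.IsQCoh M.obj := M.property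
  haveI : IsIso (M.obj.restrict hW.fromSpec).fromTildeΓ :=
    (isIso_fromTildeΓ_iff_isLocalizing _).mpr (isLocalizing_of_locAt M.obj hW (locAt M.obj hW))
  haveI h : Module.Finite Γ(X, W) Γ(M.obj.restrict hW.fromSpec, ⊤) :=
    finite_restrict_of_isNoetherianObject M hW.fromSpec
  exact Module.Finite.equiv (topEquiv M.obj hW)

end Groth.Agent.QCohNoeth
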